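import Groth.Prelude.Def_EndRing
import Groth.Agent.LVCorr.Frob
import Mathlib.AlgebraicGeometry.Pullbacks
import Mathlib.CategoryTheory.Monoidal.Cartesian.Over

/-!
# The `q`-Frobenius of schemes over a finite field and polynomials in it
-/

set_option autoImplicit false
set_option backward.isDefEq.respectTransparency.types false
universe u

open CategoryTheory MonoidalCategory CartesianMonoidalCategory MonObj AlgebraicGeometry TopologicalSpace

noncomputable section

namespace Groth.Agent.AVFin12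

variable {k : Type u} [Field k]

/-- `π` is the `q`-Frobenius. -/
def IsFr {X : Over (Spec (CommRingCat.of k))} (π : X ⟶ X) : Prop :=
  π.left.base = 𝟙 _ ∧ ∃ hle : ∀ U : X.left.Opens, U ≤ π.left ⁻¹ᵁ U,
    ∀ (U : X.left.Opens) (s : Γ(X.left, U)), (π.left.appLE U U (hle U)).hom s = s ^ Nat.card k

/-- An endomorphism with trivial underlying map is determined by its action on sections. -/
theorem hom_ext_of_base {X : Scheme.{u}} {f g : X ⟶ X} (hf : f.base = 𝟙 _) (hg : g.base = 𝟙 _)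
    (h : ∀ (U : X.Opens) (e : U ≤ f ⁻¹ᵁ U) (e' : U ≤ g ⁻¹ᵁ U) (s : Γ(X, U)),
      f.appLE U U e s = g.appLE U U e' s) : f = g := by
  refine Scheme.Hom.ext (hf.trans hg.symm) fun U => ?_
  have e1 : f ⁻¹ᵁ U = U := Opens.ext (Set.ext fun x => by
    change f.base x ∈ U ↔ x ∈ U
    rw [hf]; rfl)
  have e2 : g ⁻¹ᵁ U = U := Opens.ext (Set.ext fun x => by
    change g.base x ∈ U ↔ x ∈ U
    rw [hg]; rfl)
  have h1 : f.appLE U U e1.ge = g.appLE U U e2.ge := CommRingCat.hom_ext (RingHom.ext (h U _ _))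
  rw [Scheme.Hom.app_eq_appLE, Scheme.Hom.app_eq_appLE]
  rw [← Scheme.Hom.appLE_map f e1.ge (homOfLE e1.le).op,
    ← Scheme.Hom.appLE_map g e2.ge (homOfLE e2.le).op, h1, Category.assoc, ← Functor.map_comp]
  rfl

variable [Finite k]

theorem exists_card : ∃ (p : ℕ) (_ : Fact p.Prime) (_ : CharP k p) (e : ℕ), Nat.card k = p ^ e := by
  letI := Fintype.ofFinite k
  obtain ⟨p, hc⟩ := CharP.exists k
  haveI := hc
  obtain ⟨n, hp, hq⟩ := FiniteField.card k p
  exact ⟨p, ⟨hp⟩, hc, n, by rw [Nat.card_eq_fintype_card, hq]⟩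

/-- Frobenius exists and is natural. -/
theorem exists_isFr :
    ∃ F : ∀ X : Over (Spec (CommRingCat.of k)), X ⟶ X, (∀ X, IsFr (F X)) ∧
      (∀ (X Y : Over (Spec (CommRingCat.of k))) (f : X ⟶ Y), F X ≫ f = f ≫ F Y) ∧
      F (𝟙_ _) = 𝟙 _ := by
  letI := Fintype.ofFinite k
  obtain ⟨p, hp, hc, e, hq⟩ := exists_card (k := k)
  have hcp : ∀ X : Over (Spec (CommRingCat.of k)), FrobSch.IsCharP X.left p := fun X =>
    FrobSch.IsCharP.of_hom X.hom p
  have hid : LVCorr.Frob.Fq (p := p) (Spec (CommRingCat.of k)) (e * 1) = 𝟙 _ :=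
    LVCorr.Frob.Fq_Spec_eq_id k e (by rw [← Nat.card_eq_fintype_card, hq]) 1
  rw [_root_.mul_one] at hid
  let F : ∀ X : Over (Spec (CommRingCat.of k)), X ⟶ X := fun X =>
    haveI := hcp X
    Over.homMk (LVCorr.Frob.Fq (p := p) X.left e) (by
      rw [LVCorr.Frob.Fq_naturality, hid, Category.comp_id])
  refine ⟨F, fun X => ⟨?_, ?_, ?_⟩, fun X Y f => ?_, ?_⟩
  · haveI := hcp X
    ext x
    exact LVCorr.Frob.Fq_apply X.left e x
  · haveI := hcp X
    exact fun U => (LVCorr.Frob.Fq_preimage X.left e U).ge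
  · haveI := hcp X
    intro U s
    rw [hq]
    exact LVCorr.Frob.Fq_appLE X.left e _ s
  · haveI := hcp X
    haveI := hcp Y
    exact Over.OverMorphism.ext (LVCorr.Frob.Fq_naturality e f.left)
  · exact Over.OverMorphism.ext hid

theorem IsFr.unique {X : Over (Spec (CommRingCat.of k))} {π π' : X ⟶ X} (h : IsFr π) (h' : IsFr π') :
    π = π' := by
  obtain ⟨hb, hle, happ⟩ := h
  obtain ⟨hb', hle', happ'⟩ := h'
  exact Over.OverMorphism.ext (hom_ext_of_base hb hb' fun U e e' s =>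
    (happ U s).trans (happ' U s).symm)

theorem IsFr.comm {X Y : Over (Spec (CommRingCat.of k))} {πX : X ⟶ X} {πY : Y ⟶ Y} (hX : IsFr πX)
    (hY : IsFr πY) (f : X ⟶ Y) : πX ≫ f = f ≫ πY := by
  obtain ⟨F, hF, hn, -⟩ := exists_isFr (k := k)
  rw [hX.unique (hF X), hY.unique (hF Y), hn]

theorem IsFr.isMonHom {X : Over (Spec (CommRingCat.of k))} [GrpObj X] {π : X ⟶ X} (h : IsFr π) :
    IsMonHom π := by
  obtain ⟨F, hF, hn, hu⟩ := exists_isFr (k := k)
  rw [h.unique (hF X)]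
  refine ⟨?_, ?_⟩
  · rw [← hn _ _ η[X], hu, Category.id_comp]
  · have h2 : F (X ⊗ X) = (F X ⊗ₘ F X) := CartesianMonoidalCategory.hom_ext _ _
      (by rw [hn _ _ (fst X X), tensorHom_fst]) (by rw [hn _ _ (snd X X), tensorHom_snd])
    rw [← hn _ _ μ[X], h2]

/-- `P` kills the Frobenius of `X`. -/
def Good (P : Polynomial ℤ) (X : Over (Spec (CommRingCat.of k))) [GrpObj X] [IsCommMonObj X] : Prop :=
  ∀ (π : X ⟶ X) [IsMonHom π], IsFr π →
    Polynomial.eval₂ (Int.castRingHom (EndAV.End X)) (EndAV.End.of π) P = 0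

theorem good_of {P : Polynomial ℤ} {X : Over (Spec (CommRingCat.of k))} [GrpObj X] [IsCommMonObj X]
    (π : X ⟶ X) [IsMonHom π] (hπ : IsFr π)
    (h : Polynomial.eval₂ (Int.castRingHom (EndAV.End X)) (EndAV.End.of π) P = 0) : Good P X := by
  intro π' _ hπ'
  obtain rfl := hπ.unique hπ'
  exact h

omit [Finite k] in
/-- Polynomials in commuting endomorphisms commute with a homomorphism. -/
theorem comp_eval₂ {X Y : Over (Spec (CommRingCat.of k))} [GrpObj X] [IsCommMonObj X] [GrpObj Y]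
    [IsCommMonObj Y] (f : EndAV.Hom X Y) (a : EndAV.End X) (b : EndAV.End Y)
    (h : CategoryTheory.End.asHom a ≫ f = f ≫ CategoryTheory.End.asHom b) (P : Polynomial ℤ) :
    CategoryTheory.End.asHom (Polynomial.eval₂ (Int.castRingHom (EndAV.End X)) a P) ≫ f =
      f ≫ CategoryTheory.End.asHom (Polynomial.eval₂ (Int.castRingHom (EndAV.End Y)) b P) := by
  induction P using Polynomial.induction_on with
  | C n =>
    rw [Polynomial.eval₂_C, Polynomial.eval₂_C, eq_intCast, eq_intCast, ← zsmul_one, ← zsmul_one]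
    show (n • 𝟙 (CommGrp.mk X)) ≫ f = f ≫ (n • 𝟙 (CommGrp.mk Y))
    rw [Preadditive.zsmul_comp, Preadditive.comp_zsmul, Category.id_comp, Category.comp_id]
  | add p q hp hq =>
    rw [Polynomial.eval₂_add, Polynomial.eval₂_add]
    exact (Preadditive.add_comp _ _ _ _ _ _).trans ((congrArg₂ (· + ·) hp hq).trans
      (Preadditive.comp_add _ _ _ _ _ _).symm)
  | monomial n c hm =>
    rw [pow_succ, ← _root_.mul_assoc, Polynomial.eval₂_mul_X, Polynomial.eval₂_mul_X, CategoryTheory.End.mul_def,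
      CategoryTheory.End.mul_def]
    rw [Category.assoc, hm, reassoc_of% h]

/-- Good descends along epimorphisms. -/
theorem Good.of_epi {P : Polynomial ℤ} {X Y : Over (Spec (CommRingCat.of k))} [GrpObj X] [IsCommMonObj X]
    [GrpObj Y] [IsCommMonObj Y] (hX : Good P X) (f : EndAV.Hom X Y)
    (hf : ∀ a b : Y ⟶ Y, f.toHom ≫ a = f.toHom ≫ b → a = b) : Good P Y := by
  obtain ⟨F, hF, -⟩ := exists_isFr (k := k)
  intro π _ hπ
  haveI := (hF X).isMonHom
  have h := comp_eval₂ f (EndAV.End.of (F X)) (EndAV.End.of π) (EndAV.Hom.ext ((hF X).comm hπ f.toHom)) P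
  rw [hX (F X) (hF X)] at h
  refine EndAV.End.ext (hf _ _ ?_)
  have h' := congrArg EndAV.Hom.toHom h
  rw [EndAV.Hom.toHom_comp, EndAV.Hom.toHom_comp] at h'
  refine h'.symm.trans ?_
  show (1 : X ⟶ X) ≫ f.toHom = f.toHom ≫ (1 : Y ⟶ Y)
  rw [MonObj.one_comp, MonObj.comp_one]

/-- Good ascends along jointly monomorphic families. -/
theorem Good.of_mono {P : Polynomial ℤ} {X Y : Over (Spec (CommRingCat.of k))} [GrpObj X] [IsCommMonObj X]
    [GrpObj Y] [IsCommMonObj Y] (hY : Good P Y) {J : Type*} (f : J → EndAV.Hom X Y)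
    (hf : ∀ a b : X ⟶ X, (∀ i, a ≫ (f i).toHom = b ≫ (f i).toHom) → a = b) : Good P X := by
  obtain ⟨F, hF, -⟩ := exists_isFr (k := k)
  intro π _ hπ
  haveI := (hF Y).isMonHom
  refine EndAV.End.ext (hf _ _ fun i => ?_)
  have h := comp_eval₂ (f i) (EndAV.End.of π) (EndAV.End.of (F Y)) (EndAV.Hom.ext (hπ.comm (hF Y) _)) P
  rw [hY (F Y) (hF Y)] at h
  have h' := congrArg EndAV.Hom.toHom h
  rw [EndAV.Hom.toHom_comp, EndAV.Hom.toHom_comp] at h'
  refine h'.trans ?_
  show (f i).toHom ≫ (1 : Y ⟶ Y) = (1 : X ⟶ X) ≫ (f i).toHom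
  rw [MonObj.one_comp, MonObj.comp_one]

end Groth.Agent.AVFin12
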