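import Groth.Agent.GrpdLib.GrpOver
import Groth.Agent.GrpScheme.Basic
import Groth.Prelude.Def_AlgGrp

/-!
# Quotient groups (after `GrpdLib.AffNormalQuot`)
-/

set_option autoImplicit false
set_option linter.style.haveILetI false
set_option backward.isDefEq.respectTransparency false
universe u

open CategoryTheory MonoidalCategory CartesianMonoidalCategory MonObj GrpObj AlgebraicGeometry Limits

noncomputable section

namespace Groth.Agent.AVFin12

open Groth.Agent.GrpdLib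

section QuotGroup

variable {S : Scheme.{u}} {G N X : Over S} [GrpObj G] [GrpObj N] (i : N ⟶ G) [IsMonHom i] (p : G ⟶ X)
  (hrel : ∀ {T : Over S} (x y : T ⟶ G), x ≫ p = y ≫ p ↔ ∃ z : T ⟶ N, z ≫ i = x⁻¹ * y)
  (hN : AlgGrp.IsNormalHom i)

include hrel hN in
lemma congr_mul {T : Over S} {x y a b : T ⟶ G} (h : x ≫ p = y ≫ p) (h' : a ≫ p = b ≫ p) :
    (x * a) ≫ p = (y * b) ≫ p := by
  obtain ⟨z, hz⟩ := (hrel _ _).1 h
  obtain ⟨z', hz'⟩ := (hrel _ _).1 h'
  obtain ⟨n, hn⟩ := hN T a⁻¹ z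
  refine (hrel _ _).2 ⟨n * z', ?_⟩
  rw [MonObj.mul_comp, ← hn, hz', hz, _root_.inv_inv, _root_.mul_inv_rev]
  simp only [_root_.mul_assoc, mul_inv_cancel_left]

include hrel hN in
lemma congr_inv {T : Over S} {x y : T ⟶ G} (h : x ≫ p = y ≫ p) : x⁻¹ ≫ p = y⁻¹ ≫ p := by
  obtain ⟨z, hz⟩ := (hrel _ _).1 h
  obtain ⟨n, hn⟩ := hN T x z⁻¹
  refine (hrel _ _).2 ⟨n, ?_⟩
  rw [← hn, GrpObj.inv_comp, hz, _root_.inv_inv, _root_.mul_inv_rev, _root_.inv_inv, _root_.mul_assoc,
    _root_.mul_assoc, mul_inv_cancel, _root_.mul_one]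

variable [Flat p.left] [Surjective p.left] [LocallyOfFinitePresentation p.left]

include hrel hN in
/-- The quotient by a normal subgroup is a group. -/
theorem exists_quotGroup [Mono i] : ∃ (_ : GrpObj X), IsMonHom p ∧ AlgGrp.IsKernel i p := by
  have hp : (@Surjective ⊓ @Flat ⊓ @LocallyOfFinitePresentation : MorphismProperty Scheme.{u}) p.left :=
    ⟨⟨inferInstance, inferInstance⟩, inferInstance⟩
  have hl : ∀ R : Over S, EffectiveEpi (R ◁ p).left := fun R => by
    obtain ⟨⟨_, _⟩, _⟩ := GrpScheme.Basic.whiskerLeft_mem _ p R hp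
    infer_instance
  have hpp' : (@Surjective ⊓ @Flat ⊓ @LocallyOfFinitePresentation : MorphismProperty Scheme.{u})
      (p ⊗ₘ p).left := by
    rw [MonoidalCategory.tensorHom_def, Over.comp_left]
    exact MorphismProperty.comp_mem _ _ _ (GrpScheme.Basic.whiskerRight_mem _ p _ hp)
      (GrpScheme.Basic.whiskerLeft_mem _ p _ hp)
  have hpp : EffectiveEpi (p ⊗ₘ p).left := by
    obtain ⟨⟨_, _⟩, _⟩ := hpp'
    infer_instance
  have hppp : EffectiveEpi ((p ⊗ₘ p) ⊗ₘ p).left := by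
    have h : (@Surjective ⊓ @Flat ⊓ @LocallyOfFinitePresentation : MorphismProperty Scheme.{u})
        ((p ⊗ₘ p) ⊗ₘ p).left := by
      rw [MonoidalCategory.tensorHom_def, Over.comp_left]
      exact MorphismProperty.comp_mem _ _ _ (GrpScheme.Basic.whiskerRight_mem _ (p ⊗ₘ p) _ hpp')
        (GrpScheme.Basic.whiskerLeft_mem _ p _ hp)
    obtain ⟨⟨_, _⟩, _⟩ := h
    infer_instance
  obtain ⟨m, hm, -⟩ := GrpOver.existsUnique_desc (p ⊗ₘ p) (μ[G] ≫ p) fun T a b hab => by
    have h1 : (a ≫ fst G G) ≫ p = (b ≫ fst G G) ≫ p := by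
      simpa using congrArg (· ≫ fst X X) hab
    have h2 : (a ≫ snd G G) ≫ p = (b ≫ snd G G) ≫ p := by
      simpa using congrArg (· ≫ snd X X) hab
    rw [← Category.assoc, ← Category.assoc, MonObj.mul_eq_mul, MonObj.comp_mul, MonObj.comp_mul]
    exact congr_mul i p hrel hN h1 h2
  obtain ⟨n, hn, -⟩ := GrpOver.existsUnique_desc p ((𝟙 G)⁻¹ ≫ p) fun T a b hab => by
    rw [← Category.assoc, ← Category.assoc, GrpObj.comp_inv, GrpObj.comp_inv, Category.comp_id,
      Category.comp_id]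
    exact congr_inv i p hrel hN hab
  have key : ∀ {T : Over S} (a b : T ⟶ G), lift (a ≫ p) (b ≫ p) ≫ m = (a * b) ≫ p := fun a b => by
    rw [show lift (a ≫ p) (b ≫ p) = lift a b ≫ (p ⊗ₘ p) from (lift_map _ _ _ _).symm, Category.assoc, hm,
      ← Category.assoc, ← Hom.mul_def]
  have hpe : EffectiveEpi p.left := inferInstance
  let g : GrpObj X :=
  { one := η[G] ≫ p
    mul := m
    inv := n
    one_mul := by
      have := hl (𝟙_ (Over S))
      refine GrpOver.cancel_left (𝟙_ (Over S) ◁ p) ?_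
      rw [← Category.assoc, show (𝟙_ (Over S) ◁ p) ≫ ((η[G] ≫ p) ▷ X) =
          lift ((fst (𝟙_ (Over S)) G ≫ η[G]) ≫ p) (snd (𝟙_ (Over S)) G ≫ p) from
          CartesianMonoidalCategory.hom_ext _ _ (by simp [toUnit_unique (fst (𝟙_ (Over S)) G) (toUnit _)])
            (by simp [leftUnitor_hom]), key,
        toUnit_unique (fst (𝟙_ (Over S)) G) (toUnit _), ← Hom.one_def, _root_.one_mul,
        leftUnitor_naturality, leftUnitor_hom]
    mul_one := by
      have : EffectiveEpi (p ▷ 𝟙_ (Over S)).left := by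
        obtain ⟨⟨_, _⟩, _⟩ := GrpScheme.Basic.whiskerRight_mem _ p (𝟙_ (Over S)) hp
        infer_instance
      refine GrpOver.cancel_left (p ▷ 𝟙_ (Over S)) ?_
      rw [← Category.assoc, show (p ▷ 𝟙_ (Over S)) ≫ (X ◁ (η[G] ≫ p)) =
          lift (fst G (𝟙_ (Over S)) ≫ p) ((snd G (𝟙_ (Over S)) ≫ η[G]) ≫ p) from
          CartesianMonoidalCategory.hom_ext _ _ (by simp [rightUnitor_hom])
            (by simp [toUnit_unique (snd G (𝟙_ (Over S))) (toUnit _)]), key,
        toUnit_unique (snd G (𝟙_ (Over S))) (toUnit _), ← Hom.one_def, _root_.mul_one,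
        rightUnitor_naturality, rightUnitor_hom]
    mul_assoc := by
      refine GrpOver.cancel_left ((p ⊗ₘ p) ⊗ₘ p) ?_
      let a := fst (G ⊗ G) G ≫ fst G G
      let b := fst (G ⊗ G) G ≫ snd G G
      let c := snd (G ⊗ G) G
      have e1 : ((p ⊗ₘ p) ⊗ₘ p) ≫ (m ▷ X) = lift ((a * b) ≫ p) (c ≫ p) :=
        CartesianMonoidalCategory.hom_ext _ _
          (by rw [Category.assoc, whiskerRight_fst, tensorHom_fst_assoc, hm, lift_fst, MonObj.mul_eq_mul,
            ← Category.assoc, MonObj.comp_mul])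
          (by simp [c])
      have e2 : ((p ⊗ₘ p) ⊗ₘ p) ≫ (α_ X X X).hom ≫ (X ◁ m) = lift (a ≫ p) ((b * c) ≫ p) :=
        CartesianMonoidalCategory.hom_ext _ _ (by simp [a])
          (by
            rw [Category.assoc, Category.assoc, whiskerLeft_snd, ← key, lift_snd, ← Category.assoc,
              ← Category.assoc]
            congr 1
            refine CartesianMonoidalCategory.hom_ext _ _ ?_ ?_ <;> simp [b, c])
      rw [reassoc_of% e1, reassoc_of% e2, key, key, _root_.mul_assoc]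
    left_inv := by
      refine GrpOver.cancel_left p ?_
      rw [comp_lift_assoc, hn, Category.comp_id,
        show lift ((𝟙 G)⁻¹ ≫ p) p = lift ((𝟙 G)⁻¹ ≫ p) ((𝟙 G) ≫ p) by rw [Category.id_comp], key,
        inv_mul_cancel, Hom.one_def, ← Category.assoc p, toUnit_unique (p ≫ toUnit X) (toUnit G)]
      simp
    right_inv := by
      refine GrpOver.cancel_left p ?_
      rw [comp_lift_assoc, hn, Category.comp_id,
        show lift p ((𝟙 G)⁻¹ ≫ p) = lift ((𝟙 G) ≫ p) ((𝟙 G)⁻¹ ≫ p) by rw [Category.id_comp], key,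
        mul_inv_cancel, Hom.one_def, ← Category.assoc p, toUnit_unique (p ≫ toUnit X) (toUnit G)]
      simp }
  letI := g
  refine ⟨g, @IsMonHom.mk _ _ _ _ _ _ _ p rfl hm.symm, ?_⟩
  have w : i ≫ p = toUnit N ≫ η[G] ≫ p := by
    rw [← Category.assoc, ← Hom.one_def]
    exact (hrel _ _).2 ⟨(𝟙 N)⁻¹, by rw [_root_.mul_one, GrpObj.inv_comp, Category.id_comp]⟩
  have hmono : ∀ {T : Over S} (c : T ⟶ G), c ≫ p = toUnit T ≫ η[G] ≫ p → ∃ z : T ⟶ N, z ≫ i = c := by
    intro T c hc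
    rw [← Category.assoc, ← Hom.one_def] at hc
    obtain ⟨z, hz⟩ := (hrel _ _).1 hc.symm
    exact ⟨z, by rw [hz, inv_one, _root_.one_mul]⟩
  exact ⟨⟨w⟩, ⟨PullbackCone.IsLimit.mk _
    (fun s => (hmono s.fst (by rw [s.condition, toUnit_unique s.snd (toUnit _)]; rfl)).choose)
    (fun s => (hmono s.fst (by rw [s.condition, toUnit_unique s.snd (toUnit _)]; rfl)).choose_spec)
    (fun s => toUnit_unique _ _)
    (fun s l h₁ _ => by
      have h := (hmono s.fst (by rw [s.condition, toUnit_unique s.snd (toUnit _)]; rfl)).choose_spec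
      rw [← cancel_mono i, h, h₁])⟩⟩

end QuotGroup

end Groth.Agent.AVFin12
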