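import Groth.Agent.AVFin12.Frob
import Groth.Agent.AbVarLib.Image
import Groth.Agent.GrpQuot19.Field
import Groth.Agent.AVFin12.QuotGroup
import Groth.Agent.GrpSGA.AbelianSub
import Groth.Agent.GrpdLib.FppfSourceDescentScheme

/-!
# Products, quotients and images of abelian varieties with bounded Frobenius
-/

set_option autoImplicit false
set_option backward.isDefEq.respectTransparency.types false
universe u

open CategoryTheory MonoidalCategory CartesianMonoidalCategory MonObj GrpObj AlgebraicGeometry TopologicalSpace Limits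

noncomputable section

namespace Groth.Agent.AVFin12

variable {k : Type u} [Field k] [Finite k] {P : Polynomial ℤ}

local notation "Sk" => Over (Spec (CommRingCat.of k))

/-- Composition of geometrically integral morphisms. -/
theorem geometricallyIntegral_comp' {A B S : Scheme.{u}} (a : A ⟶ B) (b : B ⟶ S) [GeometricallyIntegral a] [Flat a]
    [UniversallyOpen a] [GeometricallyIntegral b] [LocallyOfFiniteType b] [IsLocallyNoetherian S] :
    GeometricallyIntegral (a ≫ b) := by
  refine ⟨fun K _ y C fst snd h => ?_⟩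
  have : IsIntegral (pullback b y) :=
    GeometricallyIntegral.geometrically_isIntegral y _ _ (IsPullback.of_hasPullback b y)
  have : IsLocallyNoetherian (pullback b y) := LocallyOfFiniteType.isLocallyNoetherian (pullback.snd b y)
  have : IsIntegral (pullback a (pullback.fst b y)) :=
    GeometricallyIntegral.isIntegral_of_isLocallyNoetherian (pullback.snd a (pullback.fst b y))
  have h2 : IsPullback (pullback.fst a (pullback.fst b y)) (pullback.snd a (pullback.fst b y) ≫ pullback.snd b y)
      (a ≫ b) y := (IsPullback.of_hasPullback a (pullback.fst b y)).paste_vert (IsPullback.of_hasPullback b y)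
  let e := h.isoIsPullback _ _ h2
  have : Nonempty C := ⟨e.inv (Classical.arbitrary _)⟩
  exact @isIntegral_of_isOpenImmersion _ _ e.hom _ _ _

omit [Finite k] in
theorem geometricallyIntegral_tensor (A B : Sk) [GeometricallyIntegral A.hom] [LocallyOfFiniteType A.hom]
    [GeometricallyIntegral B.hom] [LocallyOfFiniteType B.hom] : GeometricallyIntegral (A ⊗ B).hom := by
  show GeometricallyIntegral (pullback.fst A.hom B.hom ≫ A.hom)
  exact geometricallyIntegral_comp' _ _

omit [Finite k] in
theorem isProper_tensor (A B : Sk) [IsProper A.hom] [IsProper B.hom] : IsProper (A ⊗ B).hom := by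
  show IsProper (pullback.fst A.hom B.hom ≫ A.hom)
  infer_instance

/-- Finite powers. -/
theorem exists_power (A : Sk) [GrpObj A] [IsCommMonObj A] [IsProper A.hom] [GeometricallyIntegral A.hom]
    (hA : Good P A) : ∀ n : ℕ, ∃ (B : Sk) (_ : GrpObj B) (_ : IsCommMonObj B) (_ : IsProper B.hom)
      (_ : GeometricallyIntegral B.hom) (pr : Fin n → EndAV.Hom B A), Good P B ∧
      (∀ (T : Sk) (x y : T ⟶ B), (∀ i, x ≫ (pr i).toHom = y ≫ (pr i).toHom) → x = y) ∧
      (∀ (X : Sk) [GrpObj X] [IsCommMonObj X] (f : Fin n → EndAV.Hom X A),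
        ∃ g : EndAV.Hom X B, ∀ i, g ≫ pr i = f i) := by
  intro n
  induction n with
  | zero =>
    haveI : IsProper (𝟙_ Sk).hom := inferInstanceAs (IsProper (𝟙 _))
    haveI : GeometricallyIntegral (𝟙_ Sk).hom := by
      show GeometricallyIntegral (𝟙 (Spec (CommRingCat.of k)))
      refine ⟨fun K _ y C fst snd h => ?_⟩
      have : IsIso snd := h.isIso_snd_of_isIso
      have : Nonempty C := ⟨(asIso snd).inv (Classical.arbitrary _)⟩
      exact isIntegral_of_isOpenImmersion snd
    refine ⟨𝟙_ Sk, inferInstance, inferInstance, inferInstance, inferInstance, Fin.elim0, ?_,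
      fun T x y _ => toUnit_unique x y, fun X _ _ f => ⟨EndAV.Hom.of (toUnit X), fun i => i.elim0⟩⟩
    intro π _ _
    exact EndAV.End.ext (toUnit_unique _ _)
  | succ n ih =>
    obtain ⟨B, _, _, _, _, pr, hB, hext, hlift⟩ := ih
    haveI := isProper_tensor A B
    haveI := geometricallyIntegral_tensor A B
    let pr' : Fin (n + 1) → EndAV.Hom (A ⊗ B) A :=
      Fin.cons (EndAV.Hom.of (fst A B)) fun i => EndAV.Hom.of (snd A B) ≫ pr i
    have hext' : ∀ (T : Sk) (x y : T ⟶ A ⊗ B), (∀ i, x ≫ (pr' i).toHom = y ≫ (pr' i).toHom) → x = y := by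
      intro T x y h
      refine CartesianMonoidalCategory.hom_ext _ _ ?_ (hext T _ _ fun i => ?_)
      · have := h 0
        simpa [pr'] using this
      · have := h i.succ
        simpa [pr'] using this
    refine ⟨A ⊗ B, inferInstance, inferInstance, inferInstance, inferInstance, pr',
      hA.of_mono pr' (hext' _), hext', fun X _ _ f => ?_⟩
    obtain ⟨g, hg⟩ := hlift X fun i => f i.succ
    let l : X ⟶ A ⊗ B := lift (f 0).toHom g.toHom
    haveI : IsMonHom l := by
      refine ⟨CartesianMonoidalCategory.hom_ext _ _ ?_ ?_, CartesianMonoidalCategory.hom_ext _ _ ?_ ?_⟩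
      · rw [Category.assoc, lift_fst, IsMonHom.one_hom, IsMonHom.one_hom]
      · rw [Category.assoc, lift_snd, IsMonHom.one_hom, IsMonHom.one_hom]
      · rw [Category.assoc, lift_fst, IsMonHom.mul_hom, Category.assoc, IsMonHom.mul_hom,
          tensorHom_comp_tensorHom_assoc, lift_fst]
      · rw [Category.assoc, lift_snd, IsMonHom.mul_hom, Category.assoc, IsMonHom.mul_hom,
          tensorHom_comp_tensorHom_assoc, lift_snd]
    refine ⟨EndAV.Hom.of l, Fin.cases ?_ fun i => ?_⟩
    · apply EndAV.Hom.ext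
      simp [pr', l]
    · apply EndAV.Hom.ext
      rw [← hg i]
      simp [pr', l]

omit [Finite k] in
/-- A finite family of homomorphisms with the same common kernel as all of them. -/
theorem exists_finite_family (X A : Sk) [GrpObj X] [IsCommMonObj X] [GrpObj A] [IsCommMonObj A]
    [IsProper X.hom] [IsProper A.hom] :
    ∃ (n : ℕ) (ψ : Fin n → EndAV.Hom X A), ∀ (T : Sk) (x : T ⟶ X), (∀ i, x ≫ (ψ i).toHom = 1) →
      ∀ f : EndAV.Hom X A, x ≫ f.toHom = 1 := by
  classical
  haveI : IsLocallyNoetherian X.left := LocallyOfFiniteType.isLocallyNoetherian X.hom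
  haveI : CompactSpace X.left := QuasiCompact.compactSpace_of_compactSpace X.hom
  haveI : IsClosedImmersion (η[A] : 𝟙_ Sk ⟶ A).left := by
    haveI : IsClosedImmersion ((η[A] : 𝟙_ Sk ⟶ A).left ≫ A.hom) := by
      rw [Over.w (η[A] : 𝟙_ Sk ⟶ A)]
      show IsClosedImmersion (𝟙 _)
      infer_instance
    exact IsClosedImmersion.of_comp _ A.hom
  let K : EndAV.Hom X A → X.left.IdealSheafData := fun f =>
    (pullback.fst f.toHom.left (η[A] : 𝟙_ Sk ⟶ A).left).ker
  have hK : ∀ (T : Sk) (x : T ⟶ X) (f : EndAV.Hom X A), x ≫ f.toHom = 1 ↔ K f ≤ x.left.ker := by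
    intro T x f
    constructor
    · intro h
      have h' : x.left ≫ f.toHom.left = (toUnit T).left ≫ (η[A] : 𝟙_ Sk ⟶ A).left :=
        (congrArg CommaMorphism.left h).trans (congrArg CommaMorphism.left (Hom.one_def (M := A) (X := T)))
      rw [← pullback.lift_fst x.left (toUnit T).left h']
      exact Scheme.Hom.le_ker_comp _ _
    · intro h
      let z := IsClosedImmersion.lift (pullback.fst f.toHom.left (η[A] : 𝟙_ Sk ⟶ A).left) x.left h
      have hz : z ≫ pullback.fst _ _ = x.left := IsClosedImmersion.lift_fac _ _ _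
      have e1 : x.left ≫ f.toHom.left = (z ≫ pullback.snd _ _) ≫ (η[A] : 𝟙_ Sk ⟶ A).left := by
        rw [← hz, Category.assoc, Category.assoc, pullback.condition]
      have e2 : z ≫ pullback.snd _ _ = (toUnit T).left := by
        have h1 := congrArg (· ≫ A.hom) e1
        simp only [Category.assoc, Over.w f.toHom, Over.w (η[A] : 𝟙_ Sk ⟶ A)] at h1
        change x.left ≫ X.hom = z ≫ pullback.snd _ _ ≫ 𝟙 _ at h1
        rw [Category.comp_id, Over.w x] at h1
        exact h1.symm.trans ((Category.comp_id (toUnit T).left).symm.trans (Over.w (toUnit T))).symm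
      rw [Hom.one_def]
      exact Over.OverMorphism.ext (by rw [e2] at e1; exact e1)
  -- the supremum of the ideals is attained by finitely many
  obtain ⟨t, ht⟩ := isCompact_univ.elim_finite_subcover (fun U : X.left.affineOpens => (U.1 : Set X.left))
    (fun U => U.1.2) (fun x _ => by
      obtain ⟨U, hU⟩ := Opens.mem_iSup.mp ((iSup_affineOpens_eq_top X.left).ge (Set.mem_univ x))
      exact Set.mem_iUnion.mpr ⟨U, hU⟩)
  have key : ∀ U : X.left.affineOpens, ∃ s : Finset (EndAV.Hom X A),
      ∀ i, (K i).ideal U ≤ (s.sup K).ideal U := fun U => by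
    haveI : IsNoetherianRing Γ(X.left, U.1) := IsLocallyNoetherian.component_noetherian U
    obtain ⟨_, ⟨s, rfl⟩, hmax⟩ := set_has_maximal_iff_noetherian.mpr
      (inferInstanceAs (IsNoetherian Γ(X.left, U.1) Γ(X.left, U.1)))
      {J : Ideal Γ(X.left, U.1) | ∃ s : Finset (EndAV.Hom X A), J = (s.sup K).ideal U} ⟨_, ∅, rfl⟩
    refine ⟨s, fun i => ?_⟩
    by_contra hi
    refine hmax _ ⟨insert i s, rfl⟩ ?_
    rw [Finset.sup_insert, Scheme.IdealSheafData.ideal_sup, Pi.sup_apply]
    exact lt_of_le_of_ne le_sup_right fun h => hi (h ▸ le_sup_left)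
  choose s hs using key
  have hall : ∀ f, K f ≤ (t.biUnion s).sup K := fun f => by
    refine sup_eq_right.mp (Scheme.IdealSheafData.ext_of_iSup_eq_top (fun U : ↥t => U.1) ?_ fun U => ?_)
    · refine eq_top_iff.mpr fun x _ => Opens.mem_iSup.mpr ?_
      obtain ⟨U, hU⟩ := Set.mem_iUnion.mp (ht (Set.mem_univ x))
      obtain ⟨hUt, hx⟩ := Set.mem_iUnion.mp hU
      exact ⟨⟨U, hUt⟩, hx⟩
    · rw [Scheme.IdealSheafData.ideal_sup, Pi.sup_apply, sup_eq_right]
      exact (hs U.1 f).trans (Scheme.IdealSheafData.le_def.mp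
        (Finset.sup_mono (Finset.subset_biUnion_of_mem s U.2)) U.1)
  refine ⟨(t.biUnion s).card, fun i => ((t.biUnion s).equivFin.symm i).1, fun T x h f => ?_⟩
  rw [hK]
  refine (hall f).trans (Finset.sup_le fun g hg => ?_)
  rw [← hK]
  simpa using h ((t.biUnion s).equivFin ⟨g, hg⟩)

/-- The quotient of an abelian variety by a closed subgroup. -/
theorem exists_quotient (G : Sk) [GrpObj G] [IsCommMonObj G] [IsProper G.hom] [GeometricallyIntegral G.hom]
    (hG : Good P G) {H : Sk} [GrpObj H] (i : H ⟶ G) [IsMonHom i] [IsClosedImmersion i.left] :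
    ∃ (Q : Sk) (_ : GrpObj Q) (_ : IsCommMonObj Q) (_ : IsProper Q.hom)
      (_ : GeometricallyIntegral Q.hom) (q : EndAV.Hom G Q), Good P Q ∧ AlgGrp.IsKernel i q.toHom ∧
      (∀ {Z : Sk} (a b : Q ⟶ Z), q.toHom ≫ a = q.toHom ≫ b → a = b) := by
  haveI : Mono i := Over.mono_of_mono_left i
  haveI : LocallyOfFiniteType H.hom := by
    rw [← Over.w i]; infer_instance
  obtain ⟨Q, p, hf, hs, hp, hsq⟩ := GrpQuot19.Field.exists_quotient_of_closedSubgroup (G := G) i
  haveI := hf; haveI := hs; haveI := hp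
  have hrel : ∀ {T : Sk} (x y : T ⟶ G), x ≫ p = y ≫ p ↔ ∃ z : T ⟶ H, z ≫ i = x⁻¹ * y := by
    intro T x y
    have hmul : ∀ (a : T ⟶ G ⊗ H), a ≫ (G ◁ i) ≫ μ[G] = (a ≫ fst G H) * ((a ≫ snd G H) ≫ i) := by
      intro a
      rw [Hom.mul_def, ← Category.assoc]
      congr 1
      exact CartesianMonoidalCategory.hom_ext _ _ (by simp) (by simp)
    constructor
    · intro h
      refine ⟨hsq.lift y x h.symm ≫ snd G H, ?_⟩
      have h1 := hmul (hsq.lift y x h.symm)
      rw [IsPullback.lift_snd] at h1
      erw [IsPullback.lift_fst] at h1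
      rw [eq_inv_mul_iff_mul_eq]; exact h1.symm
    · rintro ⟨z, hz⟩
      have h1 := hmul (lift x z)
      rw [lift_fst, lift_snd, hz, mul_inv_cancel_left] at h1
      have h2 := congrArg (lift x z ≫ ·) hsq.w
      simp only [← Category.assoc, lift_fst] at h2
      rw [Category.assoc (lift x z), h1] at h2
      exact h2.symm
  have hN : AlgGrp.IsNormalHom i := fun T g n => ⟨n, by rw [_root_.mul_comm g, _root_.mul_assoc, mul_inv_cancel, _root_.mul_one]⟩
  obtain ⟨_, hmon, hker⟩ := exists_quotGroup i p hrel hN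
  haveI := hmon
  haveI : IsSeparated Q.hom := GrpdLib.GrpOver.isSeparated_hom Q
  haveI : QuasiCompact p.left := by
    haveI : QuasiCompact (p.left ≫ Q.hom) := by rw [Over.w]; infer_instance
    exact QuasiCompact.of_comp p.left Q.hom
  haveI : EffectiveEpi p.left := inferInstance
  have hepi : ∀ {Z : Sk} (a b : Q ⟶ Z), p ≫ a = p ≫ b → a = b := fun a b h => GrpdLib.GrpOver.cancel_left p h
  haveI : IsCommMonObj Q := ⟨GrpSGA.AbelianSub.cancel_tensor p hf hs ‹_› (by
    rw [← Category.assoc, BraidedCategory.braiding_naturality, Category.assoc, ← IsMonHom.mul_hom,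
      ← Category.assoc, IsCommMonObj.mul_comm])⟩
  haveI : LocallyOfFiniteType Q.hom := by
    haveI : LocallyOfFiniteType (p.left ≫ Q.hom) := by rw [Over.w]; infer_instance
    exact GrpdLib.FppfSourceDescent.locallyOfFiniteType_of_comp_fppf p.left Q.hom
  haveI : IsProper Q.hom := by
    haveI : UniversallyClosed (p.left ≫ Q.hom) := by rw [Over.w]; infer_instance
    haveI : UniversallyClosed Q.hom := UniversallyClosed.of_comp_surjective p.left Q.hom
    exact { toIsSeparated := inferInstance, toUniversallyClosed := inferInstance,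
            toLocallyOfFiniteType := inferInstance }
  haveI : GeometricallyIntegral (p.left ≫ Q.hom) := by rw [Over.w]; infer_instance
  haveI := AbVarLib.Image.geometricallyIntegral_of_flat_surjective p.left Q.hom
  exact ⟨Q, inferInstance, inferInstance, inferInstance, inferInstance, EndAV.Hom.of p,
    hG.of_epi (EndAV.Hom.of p) hepi, hker, hepi⟩

/-- The image of a homomorphism of abelian varieties, as a coimage. -/
theorem exists_coimage (X B : Sk) [GrpObj X] [IsCommMonObj X] [IsProper X.hom] [GeometricallyIntegral X.hom]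
    [GrpObj B] [IsCommMonObj B] [IsProper B.hom] (hX : Good P X) (m : EndAV.Hom X B) :
    ∃ (R : Sk) (_ : GrpObj R) (_ : IsCommMonObj R) (_ : IsProper R.hom)
      (_ : GeometricallyIntegral R.hom) (g : EndAV.Hom X R) (j : EndAV.Hom R B), Good P R ∧ g ≫ j = m ∧
      Mono j.toHom ∧ (∀ {Z : Sk} (a b : R ⟶ Z), g.toHom ≫ a = g.toHom ≫ b → a = b) ∧
      (∀ (A : Sk) [GrpObj A] [IsCommMonObj A] (φ : EndAV.Hom X A),
        (∀ (T : Sk) (x : T ⟶ X), x ≫ m.toHom = 1 → x ≫ φ.toHom = 1) → ∃ φ' : EndAV.Hom R A, g ≫ φ' = φ) := by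
  obtain ⟨R, _, j, g, hj, hg, hgj, hjc, hs, hf, _, _⟩ := AbVarLib.Image.exists_image m.toHom
  haveI := hj; haveI := hg; haveI := hjc; haveI := hs; haveI := hf
  haveI : Mono j := Over.mono_of_mono_left j
  haveI : IsCommMonObj R := ⟨by
    rw [← cancel_mono j, Category.assoc, IsMonHom.mul_hom, ← Category.assoc,
      ← BraidedCategory.braiding_naturality, Category.assoc, IsCommMonObj.mul_comm]⟩
  haveI : QuasiCompact g.left := by
    haveI : QuasiCompact (g.left ≫ R.hom) := by rw [Over.w]; infer_instance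
    exact QuasiCompact.of_comp g.left R.hom
  haveI : EffectiveEpi g.left := inferInstance
  have hepi : ∀ {Z : Sk} (a b : R ⟶ Z), g ≫ a = g ≫ b → a = b := fun a b h => GrpdLib.GrpOver.cancel_left g h
  refine ⟨R, inferInstance, inferInstance, inferInstance, inferInstance, EndAV.Hom.of g, EndAV.Hom.of j,
    hX.of_epi (EndAV.Hom.of g) hepi, EndAV.Hom.ext hgj, ‹_›, hepi, fun A _ _ φ hφ => ?_⟩
  obtain ⟨φ', hφ', -⟩ := GrpdLib.GrpOver.existsUnique_desc g φ.toHom fun T a b hab => by
    refine div_eq_one.mp ?_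
    rw [← GrpObj.div_comp]
    refine hφ T _ ?_
    rw [← hgj, ← Category.assoc, GrpObj.div_comp, hab, div_self', MonObj.one_comp]
  haveI : IsMonHom φ' := by
    refine ⟨?_, GrpSGA.AbelianSub.cancel_tensor g hf hs ‹_› ?_⟩
    · rw [← IsMonHom.one_hom g, Category.assoc, hφ', IsMonHom.one_hom]
    · rw [← Category.assoc, ← IsMonHom.mul_hom, Category.assoc, hφ', IsMonHom.mul_hom, ← Category.assoc,
        tensorHom_comp_tensorHom, hφ']
  exact ⟨EndAV.Hom.of φ', EndAV.Hom.ext hφ'⟩

end Groth.Agent.AVFin12
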